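import Cfsg.Agent.H650.OZ.TChar

/-!
# S4842, type F4: the `T`-characters seen by elliptic elements (helper650)

Nodes `0, 1, 2, 3`, Cartan matrix `AF i j = ⟨α_j, α_i^∨⟩` of the table `chevF4` (`0, 1` short, `2, 3` long).

* `triv_A`, `triv_B` : `NP {0, 1, 3} l` (`NP {0, 2, 3} l`): `l` is trivial on the coroots `0, 1, 3` (`0, 2, 3`);
* `eq_one_or` : both in one `W`-orbit: `l = 1` or there is a homomorphism `c : E →* ℂˣ` of order `3` and no character of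
  the orbit satisfies `NP {0, 1, 2}` or `NP {1, 2, 3}`;
* `eq_one` : elements `Ell {0, 1, 3}`, `Ell {0, 2, 3}` and (if `3` divides the order of `E`) `Ell {0, 1, 2}` or `Ell {1, 2, 3}` with
  nonzero value: `V^U` is fixed by `T`.
-/

set_option autoImplicit false
set_option linter.unusedSectionVars false
set_option maxRecDepth 100000

open Cfsg

namespace Cfsg.Agent.H650.OZ.FF

open CoxeterSystem Cfsg.Agent.ChevalleyStructure.CoxeterGeom Cfsg.Agent.Tits.Roots Cfsg.Agent.Tits.Core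
  Cfsg.Agent.Tits.Exchange Cfsg.Agent.Nodes.Reps Cfsg.Agent.Nodes.BNOf Cfsg.Agent.Nodes.StabComb
  Cfsg.Agent.Nodes.Bruhat Cfsg.Agent.Nodes.OppDec Cfsg.Agent.Nodes.LeviDec Cfsg.Agent.H985.VZ

/-- the Cartan matrix -/
def AF : Fin 4 → Fin 4 → ℤ := ![![2, -1, 0, 0], ![-1, 2, -2, 0], ![0, -1, 2, -1], ![0, 0, -1, 2]]

/-- its inverse -/
def AI : Fin 4 → Fin 4 → ℤ := ![![2, 3, 4, 2], ![3, 6, 8, 4], ![2, 4, 6, 3], ![1, 2, 3, 2]]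

/-- an integer matrix applied to a vector -/
def ap (m : Fin 4 → Fin 4 → ℤ) (v : Fin 4 → ℤ) (i : Fin 4) : ℤ := m i 0 * v 0 + m i 1 * v 1 + m i 2 * v 2 + m i 3 * v 3

/-- an integer row applied to `m - 1` -/
def row (m : Fin 4 → Fin 4 → ℤ) (c : Fin 4 → ℤ) (k : Fin 4) : ℤ :=
  c 0 * m 0 k + c 1 * m 1 k + c 2 * m 2 k + c 3 * m 3 k - c k

/-- equality of vectors -/
def eqV (a b : Fin 4 → ℤ) : Bool := a 0 == b 0 && (a 1 == b 1 && (a 2 == b 2 && a 3 == b 3))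

/-- equality of matrices -/
def eqM (a b : Fin 4 → Fin 4 → ℤ) : Bool := eqV (a 0) (b 0) && (eqV (a 1) (b 1) && (eqV (a 2) (b 2) && eqV (a 3) (b 3)))

/-- the coordinates are divisible by `3` -/
def dv3 (a : Fin 4 → ℤ) : Bool := a 0 % 3 == 0 && (a 1 % 3 == 0 && (a 2 % 3 == 0 && a 3 % 3 == 0))

/-- all nodes -/
def I4 : List (Fin 4) := [0, 1, 2, 3]

/-- the coordinates outside `J` and the coordinate `j` -/
def yy (J : List (Fin 4)) (j i : Fin 4) : ℤ := if i ∈ J ∧ i ≠ j then 0 else 1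

/-- the matrices of `W_J`, `J = {0, 1, 3}` -/
def SA : List (Fin 4 → Fin 4 → ℤ) := [
  ![![1, 0, 0, 0], ![0, 1, 0, 0], ![0, 0, 1, 0], ![0, 0, 0, 1]],
  ![![-1, 0, 0, 0], ![1, 1, 0, 0], ![0, 0, 1, 0], ![0, 0, 0, 1]],
  ![![1, 1, 0, 0], ![0, -1, 0, 0], ![0, 1, 1, 0], ![0, 0, 0, 1]],
  ![![1, 0, 0, 0], ![0, 1, 0, 0], ![0, 0, 1, 1], ![0, 0, 0, -1]],
  ![![0, 1, 0, 0], ![-1, -1, 0, 0], ![1, 1, 1, 0], ![0, 0, 0, 1]],
  ![![-1, 0, 0, 0], ![1, 1, 0, 0], ![0, 0, 1, 1], ![0, 0, 0, -1]],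
  ![![-1, -1, 0, 0], ![1, 0, 0, 0], ![0, 1, 1, 0], ![0, 0, 0, 1]],
  ![![1, 1, 0, 0], ![0, -1, 0, 0], ![0, 1, 1, 1], ![0, 0, 0, -1]],
  ![![0, -1, 0, 0], ![-1, 0, 0, 0], ![1, 1, 1, 0], ![0, 0, 0, 1]],
  ![![0, 1, 0, 0], ![-1, -1, 0, 0], ![1, 1, 1, 1], ![0, 0, 0, -1]],
  ![![-1, -1, 0, 0], ![1, 0, 0, 0], ![0, 1, 1, 1], ![0, 0, 0, -1]],
  ![![0, -1, 0, 0], ![-1, 0, 0, 0], ![1, 1, 1, 1], ![0, 0, 0, -1]]]

/-- the matrices of `W_J`, `J = {0, 2, 3}` -/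
def SB : List (Fin 4 → Fin 4 → ℤ) := [
  ![![1, 0, 0, 0], ![0, 1, 0, 0], ![0, 0, 1, 0], ![0, 0, 0, 1]],
  ![![-1, 0, 0, 0], ![1, 1, 0, 0], ![0, 0, 1, 0], ![0, 0, 0, 1]],
  ![![1, 0, 0, 0], ![0, 1, 2, 0], ![0, 0, -1, 0], ![0, 0, 1, 1]],
  ![![1, 0, 0, 0], ![0, 1, 0, 0], ![0, 0, 1, 1], ![0, 0, 0, -1]],
  ![![-1, 0, 0, 0], ![1, 1, 2, 0], ![0, 0, -1, 0], ![0, 0, 1, 1]],
  ![![-1, 0, 0, 0], ![1, 1, 0, 0], ![0, 0, 1, 1], ![0, 0, 0, -1]],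
  ![![1, 0, 0, 0], ![0, 1, 2, 0], ![0, 0, 0, 1], ![0, 0, -1, -1]],
  ![![1, 0, 0, 0], ![0, 1, 2, 2], ![0, 0, -1, -1], ![0, 0, 1, 0]],
  ![![-1, 0, 0, 0], ![1, 1, 2, 0], ![0, 0, 0, 1], ![0, 0, -1, -1]],
  ![![-1, 0, 0, 0], ![1, 1, 2, 2], ![0, 0, -1, -1], ![0, 0, 1, 0]],
  ![![1, 0, 0, 0], ![0, 1, 2, 2], ![0, 0, 0, -1], ![0, 0, -1, 0]],
  ![![-1, 0, 0, 0], ![1, 1, 2, 2], ![0, 0, 0, -1], ![0, 0, -1, 0]]]

/-- the matrices of `W_J`, `J = {0, 1, 2}` -/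
def SC : List (Fin 4 → Fin 4 → ℤ) := [
  ![![1, 0, 0, 0], ![0, 1, 0, 0], ![0, 0, 1, 0], ![0, 0, 0, 1]],
  ![![-1, 0, 0, 0], ![1, 1, 0, 0], ![0, 0, 1, 0], ![0, 0, 0, 1]],
  ![![1, 1, 0, 0], ![0, -1, 0, 0], ![0, 1, 1, 0], ![0, 0, 0, 1]],
  ![![1, 0, 0, 0], ![0, 1, 2, 0], ![0, 0, -1, 0], ![0, 0, 1, 1]],
  ![![0, 1, 0, 0], ![-1, -1, 0, 0], ![1, 1, 1, 0], ![0, 0, 0, 1]],
  ![![-1, 0, 0, 0], ![1, 1, 2, 0], ![0, 0, -1, 0], ![0, 0, 1, 1]],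
  ![![-1, -1, 0, 0], ![1, 0, 0, 0], ![0, 1, 1, 0], ![0, 0, 0, 1]],
  ![![1, 1, 0, 0], ![0, 1, 2, 0], ![0, -1, -1, 0], ![0, 1, 1, 1]],
  ![![1, 1, 2, 0], ![0, -1, -2, 0], ![0, 1, 1, 0], ![0, 0, 1, 1]],
  ![![0, -1, 0, 0], ![-1, 0, 0, 0], ![1, 1, 1, 0], ![0, 0, 0, 1]],
  ![![0, 1, 0, 0], ![1, 1, 2, 0], ![-1, -1, -1, 0], ![1, 1, 1, 1]],
  ![![0, 1, 2, 0], ![-1, -1, -2, 0], ![1, 1, 1, 0], ![0, 0, 1, 1]],
  ![![-1, -1, 0, 0], ![1, 2, 2, 0], ![0, -1, -1, 0], ![0, 1, 1, 1]],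
  ![![1, 2, 2, 0], ![0, -1, -2, 0], ![0, 0, 1, 0], ![0, 1, 1, 1]],
  ![![-1, -1, -2, 0], ![1, 0, 0, 0], ![0, 1, 1, 0], ![0, 0, 1, 1]],
  ![![1, 1, 2, 0], ![0, 1, 0, 0], ![0, -1, -1, 0], ![0, 1, 2, 1]],
  ![![0, -1, 0, 0], ![1, 2, 2, 0], ![-1, -1, -1, 0], ![1, 1, 1, 1]],
  ![![1, 2, 2, 0], ![-1, -1, -2, 0], ![0, 0, 1, 0], ![1, 1, 1, 1]],
  ![![0, -1, -2, 0], ![-1, 0, 0, 0], ![1, 1, 1, 0], ![0, 0, 1, 1]],
  ![![0, 1, 2, 0], ![1, 1, 0, 0], ![-1, -1, -1, 0], ![1, 1, 2, 1]],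
  ![![0, 1, 2, 0], ![-1, -2, -2, 0], ![1, 1, 1, 0], ![0, 1, 1, 1]],
  ![![-1, -2, -2, 0], ![1, 1, 0, 0], ![0, 0, 1, 0], ![0, 1, 1, 1]],
  ![![1, 2, 2, 0], ![0, -1, 0, 0], ![0, 0, -1, 0], ![0, 1, 2, 1]],
  ![![-1, -1, -2, 0], ![1, 2, 2, 0], ![0, -1, -1, 0], ![0, 1, 2, 1]],
  ![![1, 1, 2, 0], ![-1, -2, -2, 0], ![0, 1, 1, 0], ![1, 1, 1, 1]],
  ![![-1, -2, -2, 0], ![0, 1, 0, 0], ![0, 0, 1, 0], ![1, 1, 1, 1]],
  ![![1, 2, 2, 0], ![-1, -1, 0, 0], ![0, 0, -1, 0], ![1, 1, 2, 1]],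
  ![![0, -1, -2, 0], ![1, 2, 2, 0], ![-1, -1, -1, 0], ![1, 1, 2, 1]],
  ![![0, -1, -2, 0], ![-1, -1, 0, 0], ![1, 1, 1, 0], ![0, 1, 1, 1]],
  ![![0, 1, 2, 0], ![1, 0, 0, 0], ![-1, -1, -1, 0], ![1, 2, 2, 1]],
  ![![-1, -2, -2, 0], ![1, 1, 2, 0], ![0, 0, -1, 0], ![0, 1, 2, 1]],
  ![![0, 1, 0, 0], ![-1, -2, -2, 0], ![1, 1, 1, 0], ![0, 1, 2, 1]],
  ![![-1, -1, -2, 0], ![0, -1, 0, 0], ![0, 1, 1, 0], ![1, 1, 1, 1]],
  ![![1, 1, 2, 0], ![-1, 0, 0, 0], ![0, -1, -1, 0], ![1, 2, 2, 1]],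
  ![![-1, -2, -2, 0], ![0, 1, 2, 0], ![0, 0, -1, 0], ![1, 1, 2, 1]],
  ![![1, 1, 0, 0], ![-1, -2, -2, 0], ![0, 1, 1, 0], ![1, 1, 2, 1]],
  ![![0, -1, -2, 0], ![1, 1, 2, 0], ![-1, -1, -1, 0], ![1, 2, 2, 1]],
  ![![0, -1, 0, 0], ![-1, -1, -2, 0], ![1, 1, 1, 0], ![0, 1, 2, 1]],
  ![![0, 1, 0, 0], ![1, 0, 0, 0], ![-1, -1, -1, 0], ![1, 2, 3, 1]],
  ![![-1, -1, -2, 0], ![0, 1, 2, 0], ![0, -1, -1, 0], ![1, 2, 2, 1]],
  ![![-1, -1, 0, 0], ![0, -1, -2, 0], ![0, 1, 1, 0], ![1, 1, 2, 1]],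
  ![![1, 1, 0, 0], ![-1, 0, 0, 0], ![0, -1, -1, 0], ![1, 2, 3, 1]],
  ![![1, 0, 0, 0], ![-1, -1, -2, 0], ![0, 0, 1, 0], ![1, 2, 2, 1]],
  ![![0, -1, 0, 0], ![1, 1, 0, 0], ![-1, -1, -1, 0], ![1, 2, 3, 1]],
  ![![-1, 0, 0, 0], ![0, -1, -2, 0], ![0, 0, 1, 0], ![1, 2, 2, 1]],
  ![![-1, -1, 0, 0], ![0, 1, 0, 0], ![0, -1, -1, 0], ![1, 2, 3, 1]],
  ![![1, 0, 0, 0], ![-1, -1, 0, 0], ![0, 0, -1, 0], ![1, 2, 3, 1]],
  ![![-1, 0, 0, 0], ![0, -1, 0, 0], ![0, 0, -1, 0], ![1, 2, 3, 1]]]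

/-- the matrices of `W_J`, `J = {1, 2, 3}` -/
def SD : List (Fin 4 → Fin 4 → ℤ) := [
  ![![1, 0, 0, 0], ![0, 1, 0, 0], ![0, 0, 1, 0], ![0, 0, 0, 1]],
  ![![1, 1, 0, 0], ![0, -1, 0, 0], ![0, 1, 1, 0], ![0, 0, 0, 1]],
  ![![1, 0, 0, 0], ![0, 1, 2, 0], ![0, 0, -1, 0], ![0, 0, 1, 1]],
  ![![1, 0, 0, 0], ![0, 1, 0, 0], ![0, 0, 1, 1], ![0, 0, 0, -1]],
  ![![1, 1, 0, 0], ![0, 1, 2, 0], ![0, -1, -1, 0], ![0, 1, 1, 1]],
  ![![1, 1, 0, 0], ![0, -1, 0, 0], ![0, 1, 1, 1], ![0, 0, 0, -1]],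
  ![![1, 1, 2, 0], ![0, -1, -2, 0], ![0, 1, 1, 0], ![0, 0, 1, 1]],
  ![![1, 0, 0, 0], ![0, 1, 2, 0], ![0, 0, 0, 1], ![0, 0, -1, -1]],
  ![![1, 0, 0, 0], ![0, 1, 2, 2], ![0, 0, -1, -1], ![0, 0, 1, 0]],
  ![![1, 2, 2, 0], ![0, -1, -2, 0], ![0, 0, 1, 0], ![0, 1, 1, 1]],
  ![![1, 1, 0, 0], ![0, 1, 2, 0], ![0, 0, 0, 1], ![0, -1, -1, -1]],
  ![![1, 1, 0, 0], ![0, 1, 2, 2], ![0, -1, -1, -1], ![0, 1, 1, 0]],
  ![![1, 1, 2, 0], ![0, 1, 0, 0], ![0, -1, -1, 0], ![0, 1, 2, 1]],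
  ![![1, 1, 2, 0], ![0, -1, -2, 0], ![0, 1, 2, 1], ![0, 0, -1, -1]],
  ![![1, 0, 0, 0], ![0, 1, 2, 2], ![0, 0, 0, -1], ![0, 0, -1, 0]],
  ![![1, 1, 2, 2], ![0, -1, -2, -2], ![0, 1, 1, 1], ![0, 0, 1, 0]],
  ![![1, 2, 2, 0], ![0, -1, 0, 0], ![0, 0, -1, 0], ![0, 1, 2, 1]],
  ![![1, 2, 2, 0], ![0, -1, -2, 0], ![0, 1, 2, 1], ![0, -1, -1, -1]],
  ![![1, 1, 0, 0], ![0, 1, 2, 2], ![0, 0, 0, -1], ![0, -1, -1, 0]],
  ![![1, 2, 2, 2], ![0, -1, -2, -2], ![0, 0, 1, 1], ![0, 1, 1, 0]],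
  ![![1, 1, 2, 0], ![0, 1, 0, 0], ![0, 0, 1, 1], ![0, -1, -2, -1]],
  ![![1, 1, 2, 0], ![0, 1, 2, 2], ![0, -1, -2, -1], ![0, 1, 1, 0]],
  ![![1, 1, 2, 2], ![0, -1, -2, -2], ![0, 1, 2, 1], ![0, 0, -1, 0]],
  ![![1, 1, 2, 2], ![0, 1, 0, 0], ![0, -1, -1, -1], ![0, 1, 2, 1]],
  ![![1, 2, 2, 0], ![0, -1, 0, 0], ![0, 1, 1, 1], ![0, -1, -2, -1]],
  ![![1, 2, 2, 0], ![0, 1, 2, 2], ![0, -1, -2, -1], ![0, 0, 1, 0]],
  ![![1, 2, 2, 2], ![0, -1, -2, -2], ![0, 1, 2, 1], ![0, -1, -1, 0]],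
  ![![1, 2, 2, 2], ![0, -1, 0, 0], ![0, 0, -1, -1], ![0, 1, 2, 1]],
  ![![1, 1, 2, 0], ![0, 1, 2, 2], ![0, 0, -1, -1], ![0, -1, -1, 0]],
  ![![1, 2, 4, 2], ![0, -1, -2, -2], ![0, 0, 0, 1], ![0, 1, 1, 0]],
  ![![1, 1, 2, 2], ![0, 1, 2, 0], ![0, -1, -2, -1], ![0, 1, 1, 1]],
  ![![1, 1, 2, 2], ![0, 1, 0, 0], ![0, 0, 1, 0], ![0, -1, -2, -1]],
  ![![1, 2, 2, 0], ![0, 1, 2, 2], ![0, -1, -1, -1], ![0, 0, -1, 0]],
  ![![1, 3, 4, 2], ![0, -1, -2, -2], ![0, 0, 0, 1], ![0, 0, 1, 0]],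
  ![![1, 2, 2, 2], ![0, 1, 2, 0], ![0, -1, -2, -1], ![0, 0, 1, 1]],
  ![![1, 2, 2, 2], ![0, -1, 0, 0], ![0, 1, 1, 0], ![0, -1, -2, -1]],
  ![![1, 2, 4, 2], ![0, -1, -2, -2], ![0, 1, 1, 1], ![0, -1, -1, 0]],
  ![![1, 2, 4, 2], ![0, -1, -2, 0], ![0, 0, 0, -1], ![0, 1, 1, 1]],
  ![![1, 1, 2, 2], ![0, 1, 2, 0], ![0, 0, -1, 0], ![0, -1, -1, -1]],
  ![![1, 3, 4, 2], ![0, -1, -2, -2], ![0, 0, 1, 1], ![0, 0, -1, 0]],
  ![![1, 3, 4, 2], ![0, -1, -2, 0], ![0, 0, 0, -1], ![0, 0, 1, 1]],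
  ![![1, 2, 2, 2], ![0, 1, 2, 0], ![0, -1, -1, 0], ![0, 0, -1, -1]],
  ![![1, 2, 4, 2], ![0, 1, 0, 0], ![0, -1, -1, -1], ![0, 0, 0, 1]],
  ![![1, 2, 4, 2], ![0, -1, -2, 0], ![0, 1, 1, 0], ![0, -1, -1, -1]],
  ![![1, 3, 4, 2], ![0, -1, 0, 0], ![0, 0, -1, -1], ![0, 0, 0, 1]],
  ![![1, 3, 4, 2], ![0, -1, -2, 0], ![0, 0, 1, 0], ![0, 0, -1, -1]],
  ![![1, 2, 4, 2], ![0, 1, 0, 0], ![0, -1, -1, 0], ![0, 0, 0, -1]],
  ![![1, 3, 4, 2], ![0, -1, 0, 0], ![0, 0, -1, 0], ![0, 0, 0, -1]]]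

/-- the orbit of the third fundamental weight -/
def OO : List (Fin 4 → ℤ) := [
  ![0, 0, 1, 0], ![0, 2, -1, 1], ![2, -2, 1, 1], ![0, 2, 0, -1], ![-2, 0, 1, 1], ![2, 0, -1, 2], ![2, -2, 2, -1],
  ![-2, 2, -1, 2], ![-2, 0, 2, -1], ![2, 0, 1, -2], ![2, 2, -2, 1], ![0, -2, 1, 2], ![-2, 2, 1, -2], ![-2, 4, -2, 1],
  ![2, 2, -1, -1], ![4, -2, 0, 1], ![0, 0, -1, 3], ![0, -2, 3, -2], ![-2, 4, -1, -1], ![2, -4, 2, 1], ![4, -2, 1, -1],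
  ![-4, 2, 0, 1], ![0, 0, 2, -3], ![0, 4, -3, 1], ![2, -4, 3, -1], ![-2, -2, 2, 1], ![2, 0, -2, 3], ![-4, 2, 1, -1],
  ![4, 0, -1, 0], ![0, 4, -2, -1], ![4, -4, 1, 1], ![-2, -2, 3, -1], ![2, 2, -3, 2], ![-2, 2, -2, 3], ![2, 0, 1, -3],
  ![-4, 4, -1, 0], ![4, -4, 2, -1], ![-4, 0, 1, 1], ![4, -2, -1, 2], ![-2, 4, -3, 2], ![2, 2, -1, -2], ![0, -2, 0, 3],
  ![-2, 2, 1, -3], ![0, -4, 3, 0], ![-4, 0, 2, -1], ![4, 0, -2, 1], ![-4, 2, -1, 2], ![4, -2, 1, -2], ![2, -4, 1, 2],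
  ![-2, 4, -1, -2], ![0, -2, 3, -3], ![0, 2, -3, 3], ![-4, 4, -2, 1], ![4, 0, -1, -1], ![-2, -2, 1, 2],
  ![-4, 2, 1, -2], ![2, -2, -1, 3], ![2, -4, 3, -2], ![0, 4, -3, 0], ![0, 2, 0, -3], ![0, -4, 2, 1], ![-4, 4, -1, -1],
  ![-2, 0, -1, 3], ![-2, -2, 3, -2], ![2, -2, 2, -3], ![2, 2, -3, 1], ![4, -4, 1, 0], ![0, 0, -2, 3], ![0, -4, 3, -1],
  ![-2, 0, 2, -3], ![-2, 4, -3, 1], ![2, 2, -2, -1], ![4, -2, -1, 1], ![-4, 0, 1, 0], ![0, 0, 1, -3], ![0, 2, -3, 2],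
  ![-2, 4, -2, -1], ![2, -4, 1, 1], ![4, -2, 0, -1], ![-4, 2, -1, 1], ![0, 2, -1, -2], ![2, -2, -1, 2],
  ![2, -4, 2, -1], ![-2, -2, 1, 1], ![-4, 2, 0, -1], ![2, -2, 1, -2], ![-2, 0, -1, 2], ![-2, -2, 2, -1],
  ![2, 0, -2, 1], ![-2, 0, 1, -2], ![2, 0, -1, -1], ![-2, 2, -2, 1], ![-2, 2, -1, -1], ![0, -2, 0, 1],
  ![0, -2, 1, -1], ![0, 0, -1, 0]]

/-- combinations of the coordinates `0, 2, 3` -/
def CO : List (ℤ × ℤ × ℤ) := [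
  (0, -3, 0), (0, 3, 0), (0, 0, -3), (0, 0, 3), (0, -3, -3), (0, 3, 3), (0, -1, 0), (0, 0, -1), (0, 1, 1)]

/-- the orbit modulo `3`: a word in `J = {0, 1, 2}` moving the weight to one with stabiliser in `W_(J - j)` -/
def TC : List ((Fin 4 → ℤ) × List (Fin 4) × (Fin 4 → ℤ) × Fin 4) := [
  (![0, 0, 1, 0], [], ![0, 0, 1, 0], 2), (![0, -1, -1, 1], [2], ![0, 0, 1, 0], 2),
  (![-1, 1, 1, 1], [2, 1], ![0, 0, 1, 0], 2), (![0, -1, 0, -1], [], ![0, -1, 0, -1], 1),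
  (![1, 0, 1, 1], [2, 1, 0], ![0, 0, 1, 0], 2), (![-1, 0, -1, -1], [2, 1, 0], ![0, 0, -1, 0], 2),
  (![-1, 1, -1, -1], [1], ![0, -1, 0, -1], 1), (![1, -1, -1, -1], [2, 1], ![0, 0, -1, 0], 2),
  (![1, 0, -1, -1], [1, 0], ![0, -1, 0, -1], 1), (![-1, 0, 1, 1], [1, 0], ![0, 1, 0, 1], 1),
  (![-1, -1, 1, 1], [1, 2], ![0, -1, 0, -1], 1), (![0, 1, 1, -1], [2], ![0, 0, -1, 0], 2),
  (![1, -1, 1, 1], [1], ![0, 1, 0, 1], 1), (![1, 1, 1, 1], [1, 2, 0], ![0, -1, 0, -1], 1),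
  (![-1, -1, -1, -1], [1, 2, 0], ![0, 1, 0, 1], 1), (![1, 1, 0, 1], [1, 2, 1], ![0, -1, 0, -1], 1),
  (![0, 0, -1, 0], [], ![0, 0, -1, 0], 2), (![0, 1, 0, 1], [], ![0, 1, 0, 1], 1),
  (![1, 1, -1, -1], [1, 2], ![0, 1, 0, 1], 1), (![-1, -1, -1, 1], [1, 2, 0], ![0, 1, 0, 0], 1),
  (![1, 1, 1, -1], [1, 2, 0], ![0, -1, 0, 0], 1), (![-1, -1, 0, 1], [1, 2, 1], ![0, 1, 0, 0], 1),
  (![-1, -1, 0, -1], [1, 2, 1], ![0, 1, 0, 1], 1), (![1, 1, -1, 1], [1, 2], ![0, 1, 0, 0], 1),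
  (![-1, 0, 1, 0], [1, 0], ![0, 1, 0, 0], 1), (![-1, -1, 1, -1], [1, 2], ![0, -1, 0, 0], 1),
  (![1, 0, -1, 0], [1, 0], ![0, -1, 0, 0], 1), (![1, 1, 0, -1], [1, 2, 1], ![0, -1, 0, 0], 1),
  (![1, -1, 1, 0], [1], ![0, 1, 0, 0], 1), (![-1, 1, -1, 0], [1], ![0, -1, 0, 0], 1),
  (![0, 1, 0, 0], [], ![0, 1, 0, 0], 1), (![0, -1, 0, 0], [], ![0, -1, 0, 0], 1)]

/-- the orbit modulo `3`: a word in `J = {1, 2, 3}` moving the weight to one with stabiliser in `W_(J - j)` -/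
def TD : List ((Fin 4 → ℤ) × List (Fin 4) × (Fin 4 → ℤ) × Fin 4) := [
  (![0, 0, 1, 0], [], ![0, 0, 1, 0], 2), (![0, -1, -1, 1], [2], ![0, 0, 1, 0], 2),
  (![-1, 1, 1, 1], [2, 1], ![0, 0, 1, 0], 2), (![0, -1, 0, -1], [2, 3], ![0, 0, 1, 0], 2),
  (![1, 0, 1, 1], [2, 1, 2], ![0, 0, -1, 0], 2), (![-1, 0, -1, -1], [2, 1, 2], ![0, 0, 1, 0], 2),
  (![-1, 1, -1, -1], [2, 3, 1], ![0, 0, 1, 0], 2), (![1, -1, -1, -1], [2, 1], ![0, 0, -1, 0], 2),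
  (![1, 0, -1, -1], [2, 1, 2], ![-1, 0, 1, 0], 2), (![-1, 0, 1, 1], [2, 1, 2], ![1, 0, -1, 0], 2),
  (![-1, -1, 1, 1], [2, 3, 1], ![1, 0, -1, 0], 2), (![0, 1, 1, -1], [2], ![0, 0, -1, 0], 2),
  (![1, -1, 1, 1], [2, 3, 1], ![0, 0, -1, 0], 2), (![1, 1, 1, 1], [2, 1], ![-1, 0, 1, 0], 2),
  (![-1, -1, -1, -1], [2, 1], ![1, 0, -1, 0], 2), (![1, 1, 0, 1], [2, 3], ![1, 0, -1, 0], 2),
  (![0, 0, -1, 0], [], ![0, 0, -1, 0], 2), (![0, 1, 0, 1], [2, 3], ![0, 0, -1, 0], 2),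
  (![1, 1, -1, -1], [2, 3, 1], ![-1, 0, 1, 0], 2), (![-1, -1, -1, 1], [2], ![-1, 0, 1, 0], 2),
  (![1, 1, 1, -1], [2], ![1, 0, -1, 0], 2), (![-1, -1, 0, 1], [1, 2, 1], ![0, 1, 0, 0], 1),
  (![-1, -1, 0, -1], [2, 3], ![-1, 0, 1, 0], 2), (![1, 1, -1, 1], [1, 2], ![0, 1, 0, 0], 1),
  (![-1, 0, 1, 0], [], ![-1, 0, 1, 0], 2), (![-1, -1, 1, -1], [1, 2], ![0, -1, 0, 0], 1),
  (![1, 0, -1, 0], [], ![1, 0, -1, 0], 2), (![1, 1, 0, -1], [1, 2, 1], ![0, -1, 0, 0], 1),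
  (![1, -1, 1, 0], [1], ![0, 1, 0, 0], 1), (![-1, 1, -1, 0], [1], ![0, -1, 0, 0], 1),
  (![0, 1, 0, 0], [], ![0, 1, 0, 0], 1), (![0, -1, 0, 0], [], ![0, -1, 0, 0], 1)]

theorem ap_eq (m : Fin 4 → Fin 4 → ℤ) (v : Fin 4 → ℤ) : app m v = ap m v := by
  funext i
  simp only [app, ap, Fin.sum_univ_four, smul_eq_mul]

theorem row_eq (m : Fin 4 → Fin 4 → ℤ) (c : Fin 4 → ℤ) (k : Fin 4) :
    ∑ i, c i * (m i k - idM i k) = row m c k := by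
  simp only [row, idM, Fin.sum_univ_four]
  fin_cases k <;> simp <;> ring

theorem pairing_AI (y : Fin 4 → ℤ) (i : Fin 4) : pairing AF i (ap AI y) = y i := by
  simp only [pairing, ap, AF, AI, Fin.sum_univ_four]
  fin_cases i <;> simp <;> ring

theorem pairing_inj (x : Fin 4 → ℤ) (hx : ∀ i, pairing AF i x = 0) : x = 0 := by
  have h0 := hx 0
  have h1 := hx 1
  have h2 := hx 2
  have h3 := hx 3
  simp [pairing, AF, Fin.sum_univ_four] at h0 h1 h2 h3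
  funext i
  fin_cases i <;> simp <;> omega

theorem eqV_iff {a b : Fin 4 → ℤ} : eqV a b = true ↔ a = b := by
  unfold eqV
  simp only [Bool.and_eq_true, beq_iff_eq]
  constructor
  · rintro ⟨h0, h1, h2, h3⟩
    funext i
    fin_cases i
    · exact h0
    · exact h1
    · exact h2
    · exact h3
  · rintro rfl
    exact ⟨rfl, rfl, rfl, rfl⟩

theorem eqM_iff {a b : Fin 4 → Fin 4 → ℤ} : eqM a b = true ↔ a = b := by
  unfold eqM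
  simp only [Bool.and_eq_true, eqV_iff]
  constructor
  · rintro ⟨h0, h1, h2, h3⟩
    funext i
    fin_cases i
    · exact h0
    · exact h1
    · exact h2
    · exact h3
  · rintro rfl
    exact ⟨rfl, rfl, rfl, rfl⟩

theorem dv3_iff {a : Fin 4 → ℤ} : dv3 a = true ↔ ∀ i, (3 : ℤ) ∣ a i := by
  unfold dv3
  simp only [Bool.and_eq_true, beq_iff_eq, ← Int.dvd_iff_emod_eq_zero]
  constructor
  · rintro ⟨h0, h1, h2, h3⟩ i
    fin_cases i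
    · exact h0
    · exact h1
    · exact h2
    · exact h3
  · intro h
    exact ⟨h 0, h 1, h 2, h 3⟩

theorem mem_I4 (i : Fin 4) : i ∈ I4 := by
  fin_cases i <;> simp [I4]

/-! ### the tables -/

/-- `S` contains the identity and is closed under the reflections of `J` -/
def clo (S : List (Fin 4 → Fin 4 → ℤ)) (J : List (Fin 4)) : Bool :=
  S.any (eqM idM) && S.all fun m => J.all fun j => S.any (eqM (mulS AF j m))

theorem clo_SA : clo SA [0, 1, 3] = true := by decide +kernel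

theorem clo_SB : clo SB [0, 2, 3] = true := by decide +kernel

theorem clo_SC : clo SC [0, 1, 2] = true := by decide +kernel

theorem clo_SD : clo SD [1, 2, 3] = true := by decide +kernel

theorem OO_clo : (OO.all fun μ => I4.all fun j => OO.any (eqV (act AF j μ))) = true := by decide +kernel

theorem OO_cert : (OO.all fun μ => CO.any fun t => t.1 * μ 0 + t.2.1 * μ 2 + t.2.2 * μ 3 == 3) = true := by
  decide +kernel

/-- the table `L` for the order three case -/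
def tab (S : List (Fin 4 → Fin 4 → ℤ)) (J : List (Fin 4)) (L : List ((Fin 4 → ℤ) × List (Fin 4) × (Fin 4 → ℤ) × Fin 4)) :
    Bool :=
  L.all fun t => (I4.all fun j => L.any fun t' => dv3 fun i => act AF j t.1 i - t'.1 i) &&
    ((t.2.1.all fun j => J.any fun k => j == k) && (dv3 (fun i => actw AF t.2.1 t.1 i - t.2.2.1 i) &&
    ((J.any fun k => t.2.2.2 == k) &&
    S.all fun m => !(dv3 fun i => ap m t.2.2.1 i - t.2.2.1 i) || eqV (ap m (yy J t.2.2.2)) (yy J t.2.2.2))))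

theorem tab_C : tab SC [0, 1, 2] TC = true := by decide +kernel

theorem tab_D : tab SD [1, 2, 3] TD = true := by decide +kernel

/-- the combinations of the rows of `m - 1` -/
def certs (S : List (Fin 4 → Fin 4 → ℤ)) (y : Fin 4 → ℤ) (L D : List (Fin 4 → ℤ)) : Bool :=
  S.all fun m => eqV (ap m y) y || L.any fun c => D.any (eqV (row m c))

/-- the relations -/
def DA0 : List (Fin 4 → ℤ) := [![1, 0, 0, 0], ![1, 0, 0, 1], ![1, 1, 0, 0], ![1, 1, 0, 1]]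

/-- the relations -/
def DA1 : List (Fin 4 → ℤ) := [![0, 1, 0, 0], ![0, 1, 0, 1], ![0, 1, 0, 2], ![1, 1, 0, 0], ![1, 1, 0, 1]]

/-- the relations -/
def DB2 : List (Fin 4 → ℤ) := [![0, 0, 1, 0], ![0, 0, 1, 1], ![1, 0, 1, 0], ![2, 0, 1, 1], ![3, 0, 1, 0], ![3, 0, 1, 1]]

/-- the relations -/
def DB3 : List (Fin 4 → ℤ) := [![0, 0, 0, 1], ![0, 0, 1, 1], ![1, 0, 0, 1], ![2, 0, 1, 1], ![3, 0, 0, 1]]

theorem cert_A3 : certs SA (yy [0, 1, 3] 3) [![-1, -2, -3, -2], ![-1, -1, -1, -1], ![-1, 0, -1, -1], ![0, 0, -1, -1]]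
    [![0, 0, 0, 1]] = true := by decide +kernel

theorem cert_A0 : certs SA (yy [0, 1, 3] 0) [![-1, -1, -1, -1]] DA0 = true := by decide +kernel

theorem cert_A1 : certs SA (yy [0, 1, 3] 1) [![-1, -1, -1, -1], ![-1, -1, 0, -1], ![0, -1, -1, -1]] DA1 = true := by
  decide +kernel

theorem cert_B0 : certs SB (yy [0, 2, 3] 0) [![-2, -3, -4, -2], ![-1, -1, -1, -1], ![-1, -1, -1, 0], ![-1, -1, 0, 0]]
    [![1, 0, 0, 0]] = true := by decide +kernel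

theorem cert_B2 : certs SB (yy [0, 2, 3] 2) [![-1, -1, -1, 1], ![-1, 0, -1, 0], ![-1, 1, 1, 0], ![-1, 1, 1, 1]]
    DB2 = true := by decide +kernel

theorem cert_B3 : certs SB (yy [0, 2, 3] 3) [![-1, -1, -1, -1], ![-1, 0, -1, 0], ![-1, 1, 1, 0]] DB3 = true := by
  decide +kernel

/-! ### vectors in an additive group -/

section Vec

variable {G : Type*} [AddCommGroup G]

/-- some matrix of `S` fixes `v` and moves `y` -/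
def St (S : List (Fin 4 → Fin 4 → ℤ)) (y : Fin 4 → ℤ) (v : Fin 4 → G) : Prop := ∃ m ∈ S, app m v = v ∧ ap m y ≠ y

theorem rel_of_St {S : List (Fin 4 → Fin 4 → ℤ)} {y : Fin 4 → ℤ} {L D : List (Fin 4 → ℤ)} (hc : certs S y L D = true)
    {v : Fin 4 → G} (hv : St S y v) : ∃ d ∈ D, d 0 • v 0 + d 1 • v 1 + d 2 • v 2 + d 3 • v 3 = 0 := by
  obtain ⟨m, hm, hmv, hmy⟩ := hv
  unfold certs at hc
  rw [List.all_eq_true] at hc
  have h1 := hc m hm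
  rw [Bool.or_eq_true, eqV_iff, List.any_eq_true] at h1
  rcases h1 with h1 | ⟨c, -, h1⟩
  · exact absurd h1 hmy
  rw [List.any_eq_true] at h1
  obtain ⟨d, hd, h1⟩ := h1
  rw [eqV_iff] at h1
  refine ⟨d, hd, ?_⟩
  have h2 := rel_of_app_eq hmv c d fun k => by rw [row_eq, h1]
  rwa [Fin.sum_univ_four] at h2

theorem vec_A {v : Fin 4 → G} (h3 : St SA (yy [0, 1, 3] 3) v) (h0 : St SA (yy [0, 1, 3] 0) v)
    (h1 : St SA (yy [0, 1, 3] 1) v) (h0' : St SA (yy [0, 1, 3] 0) (act AF 0 v)) : v 0 = 0 ∧ v 1 = 0 ∧ v 3 = 0 := by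
  have e3 : v 3 = 0 := by
    obtain ⟨d, hd, e⟩ := rel_of_St cert_A3 h3
    simp only [List.mem_singleton] at hd
    subst hd
    simpa using e
  have e0 : ∀ w : Fin 4 → G, w 3 = 0 → St SA (yy [0, 1, 3] 0) w → w 0 = 0 ∨ w 0 + w 1 = 0 := by
    intro w hw hs
    obtain ⟨d, hd, e⟩ := rel_of_St cert_A0 hs
    simp only [DA0, List.mem_cons, List.not_mem_nil, or_false] at hd
    rcases hd with rfl | rfl | rfl | rfl <;> simp [hw] at e <;> tauto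
  have e1 : v 1 = 0 ∨ v 0 + v 1 = 0 := by
    obtain ⟨d, hd, e⟩ := rel_of_St cert_A1 h1
    simp only [DA1, List.mem_cons, List.not_mem_nil, or_false] at hd
    rcases hd with rfl | rfl | rfl | rfl | rfl <;> simp [e3] at e <;> tauto
  have a0 : act AF 0 v 0 = - v 0 := by
    simp only [act, AF]
    simp
    abel
  have a1 : act AF 0 v 1 = v 1 + v 0 := by
    simp only [act, AF]
    simp
  have a3 : act AF 0 v 3 = v 3 := by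
    simp only [act, AF]
    simp
  have key : v 0 + v 1 = 0 → v 0 = 0 := by
    intro hs
    rcases e0 _ (a3.trans e3) h0' with h | h
    · rwa [a0, neg_eq_zero] at h
    · rw [a0, a1, add_comm (v 1), hs, add_zero, neg_eq_zero] at h
      exact h
  have e00 : v 0 = 0 := by
    rcases e0 v e3 h0 with h | h
    · exact h
    · exact key h
  refine ⟨e00, ?_, e3⟩
  rcases e1 with h | h
  · exact h
  · rwa [e00, zero_add] at h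

theorem vec_B {v : Fin 4 → G} (h0 : St SB (yy [0, 2, 3] 0) v) (h2 : St SB (yy [0, 2, 3] 2) v)
    (h3 : St SB (yy [0, 2, 3] 3) v) (h2' : St SB (yy [0, 2, 3] 2) (act AF 2 v)) : v 0 = 0 ∧ v 2 = 0 ∧ v 3 = 0 := by
  have e0 : v 0 = 0 := by
    obtain ⟨d, hd, e⟩ := rel_of_St cert_B0 h0
    simp only [List.mem_singleton] at hd
    subst hd
    simpa using e
  have e2 : ∀ w : Fin 4 → G, w 0 = 0 → St SB (yy [0, 2, 3] 2) w → w 2 = 0 ∨ w 2 + w 3 = 0 := by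
    intro w hw hs
    obtain ⟨d, hd, e⟩ := rel_of_St cert_B2 hs
    simp only [DB2, List.mem_cons, List.not_mem_nil, or_false] at hd
    rcases hd with rfl | rfl | rfl | rfl | rfl | rfl <;> simp [hw] at e <;> tauto
  have e3 : v 3 = 0 ∨ v 2 + v 3 = 0 := by
    obtain ⟨d, hd, e⟩ := rel_of_St cert_B3 h3
    simp only [DB3, List.mem_cons, List.not_mem_nil, or_false] at hd
    rcases hd with rfl | rfl | rfl | rfl | rfl <;> simp [e0] at e <;> tauto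
  have a2 : act AF 2 v 2 = - v 2 := by
    simp only [act, AF]
    simp
    abel
  have a3 : act AF 2 v 3 = v 3 + v 2 := by
    simp only [act, AF]
    simp
  have a0 : act AF 2 v 0 = v 0 := by
    simp only [act, AF]
    simp
  have key : v 2 + v 3 = 0 → v 2 = 0 := by
    intro hs
    rcases e2 _ (a0.trans e0) h2' with h | h
    · rwa [a2, neg_eq_zero] at h
    · rw [a2, a3, add_comm (v 3), hs, add_zero, neg_eq_zero] at h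
      exact h
  have e22 : v 2 = 0 := by
    rcases e2 v e0 h2 with h | h
    · exact h
    · exact key h
  refine ⟨e0, e22, ?_⟩
  rcases e3 with h | h
  · exact h
  · rwa [e22, zero_add] at h

theorem zsmul_of_dvd {c : G} (hc : (3 : ℤ) • c = 0) {z : ℤ} (hz : 3 ∣ z) : z • c = 0 := by
  obtain ⟨y, rfl⟩ := hz
  rw [mul_comm, mul_smul, hc, smul_zero]

theorem zsmul_eq_of_dvd {c : G} (hc : (3 : ℤ) • c = 0) {y z : ℤ} (hz : 3 ∣ y - z) : y • c = z • c := by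
  rw [← sub_eq_zero, ← sub_smul]
  exact zsmul_of_dvd hc hz

theorem dvd_of_zsmul_eq {c : G} (hc0 : c ≠ 0) (hc : (3 : ℤ) • c = 0) {y z : ℤ} (hz : y • c = z • c) : 3 ∣ y - z := by
  rw [← sub_eq_zero, ← sub_smul] at hz
  by_contra h6
  apply hc0
  obtain ⟨a, b, hab⟩ := (Prime.coprime_iff_not_dvd Int.prime_three).2 h6
  rw [← one_smul ℤ c, ← hab, add_smul, mul_smul, mul_smul, hc, hz, smul_zero, smul_zero, add_zero]

theorem three_of {c : G} {x y z a b d : ℤ} (h : a * x + b * y + d * z = 3) (hx : x • c = 0) (hy : y • c = 0)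
    (hz : z • c = 0) : (3 : ℤ) • c = 0 := by
  rw [← h, add_smul, add_smul, mul_smul, mul_smul, mul_smul, hx, hy, hz, smul_zero, smul_zero, smul_zero, add_zero,
    add_zero]

end Vec

/-! ### characters -/

section Char

universe u

variable {W : Type*} {Y : Type u} [Group W] [Group Y] {M : CoxeterMatrix (Fin 4)}
  {cs : CoxeterSystem M W} {T : Subgroup Y} {n : Fin 4 → Y} {hN : NSys M T n}
  {E : Type*} [CommGroup E] {hh : Fin 4 → E →* T} [Finite W] (C : TCo AF T n hh) (h : IsCartan M AF)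

include C h

theorem st_of_NP {S : List (Fin 4 → Fin 4 → ℤ)} {J : List (Fin 4)} (hclo : clo S J = true) {l : T →* ℂˣ}
    (hl : NP cs hN {i | i ∈ J} l) (ω : List (Fin 4)) (hω : ∀ j ∈ ω, j ∈ J) {j : Fin 4} (hj : j ∈ J) :
    St S (yy J j) (actw AF ω (co hh l)) := by
  unfold clo at hclo
  rw [Bool.and_eq_true, List.any_eq_true, List.all_eq_true] at hclo
  obtain ⟨⟨m1, hm1, e1⟩, hS⟩ := hclo
  rw [eqM_iff] at e1
  obtain ⟨m, hm, h1, h2⟩ := hl.exists_mat C h S (e1 ▸ hm1) (fun m hm j hj => by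
    have h1 := hS m hm
    rw [List.all_eq_true] at h1
    have h2 := h1 j hj
    rw [List.any_eq_true] at h2
    obtain ⟨m', hm', e⟩ := h2
    rw [eqM_iff] at e
    exact e ▸ hm') pairing_inj ω hω (x := ap AI (yy J j)) (y := yy J j) (pairing_AI _)
    (fun i => by
      change (0 : ℤ) ≤ yy J j i
      unfold yy
      split <;> norm_num) (by
      have hy : ∀ i, yy J j i = 0 ↔ i ∈ J ∧ i ≠ j := by
        intro i
        unfold yy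
        split_ifs with hi
        · exact ⟨fun _ => hi, fun _ => rfl⟩
        · exact ⟨fun h => absurd h one_ne_zero, fun h => absurd h hi⟩
      refine ⟨fun i hi => ((hy i).1 hi).1, fun hsub => ?_⟩
      exact ((hy j).1 (hsub hj)).2 rfl)
  exact ⟨m, hm, h1, by rwa [← ap_eq]⟩

/-- the coordinates of a character seen by `A_2 × A_1` -/
theorem triv_A {l : T →* ℂˣ} (hl : NP cs hN {0, 1, 3} l) : co hh l 0 = 0 ∧ co hh l 1 = 0 ∧ co hh l 3 = 0 := by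
  have e : ({0, 1, 3} : Set (Fin 4)) = {i | i ∈ ([0, 1, 3] : List (Fin 4))} := by
    ext i
    simp
  rw [e] at hl
  exact vec_A (st_of_NP C h clo_SA hl [] (by simp) (by simp)) (st_of_NP C h clo_SA hl [] (by simp) (by simp))
    (st_of_NP C h clo_SA hl [] (by simp) (by simp)) (st_of_NP C h clo_SA hl [0] (by simp) (by simp))

/-- the coordinates of a character seen by `A_1 × A_2` -/
theorem triv_B {l : T →* ℂˣ} (hl : NP cs hN {0, 2, 3} l) : co hh l 0 = 0 ∧ co hh l 2 = 0 ∧ co hh l 3 = 0 := by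
  have e : ({0, 2, 3} : Set (Fin 4)) = {i | i ∈ ([0, 2, 3] : List (Fin 4))} := by
    ext i
    simp
  rw [e] at hl
  exact vec_B (st_of_NP C h clo_SB hl [] (by simp) (by simp)) (st_of_NP C h clo_SB hl [] (by simp) (by simp))
    (st_of_NP C h clo_SB hl [] (by simp) (by simp)) (st_of_NP C h clo_SB hl [2] (by simp) (by simp))

/-- the order three case -/
theorem not_NP {S : List (Fin 4 → Fin 4 → ℤ)} {J : List (Fin 4)} (hclo : clo S J = true)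
    {L : List ((Fin 4 → ℤ) × List (Fin 4) × (Fin 4 → ℤ) × Fin 4)} (ht : tab S J L = true) {c : Additive (E →* ℂˣ)}
    (hc0 : c ≠ 0) (hc : (3 : ℤ) • c = 0) {t : (Fin 4 → ℤ) × List (Fin 4) × (Fin 4 → ℤ) × Fin 4} (htL : t ∈ L)
    {l : T →* ℂˣ} (hl : co hh l = fun i => t.1 i • c) : ¬ NP cs hN {i | i ∈ J} l := by
  intro hn
  unfold tab at ht
  rw [List.all_eq_true] at ht
  have h1 := ht t htL
  simp only [Bool.and_eq_true] at h1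
  obtain ⟨-, hω, hν, hj, hS⟩ := h1
  rw [List.all_eq_true] at hω hS
  rw [List.any_eq_true] at hj
  rw [dv3_iff] at hν
  have hω' : ∀ j ∈ t.2.1, j ∈ J := by
    intro j hj
    have h1 := hω j hj
    rw [List.any_eq_true] at h1
    obtain ⟨k, hk, e⟩ := h1
    rw [beq_iff_eq] at e
    exact e ▸ hk
  obtain ⟨k, hk, e⟩ := hj
  rw [beq_iff_eq] at e
  subst e
  have e2 : actw AF t.2.1 (co hh l) = fun i => t.2.2.1 i • c := by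
    rw [hl, actw_smul]
    funext i
    exact zsmul_eq_of_dvd hc (hν i)
  obtain ⟨m, hm, hm1, hm2⟩ := st_of_NP C h hclo hn t.2.1 hω' hk
  rw [e2, app_smul, ap_eq] at hm1
  have h3 := hS m hm
  rw [Bool.or_eq_true, Bool.not_eq_true', eqV_iff] at h3
  rcases h3 with h3 | h3
  · have h4 : (dv3 fun i => ap m t.2.2.1 i - t.2.2.1 i) = true := by
      rw [dv3_iff]
      intro i
      exact dvd_of_zsmul_eq hc0 hc (congrFun hm1 i)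
    rw [h3] at h4
    exact Bool.noConfusion h4
  · exact hm2 h3

/-- the order three case in one orbit -/
theorem not_NP_orb {S : List (Fin 4 → Fin 4 → ℤ)} {J : List (Fin 4)} (hclo : clo S J = true)
    {L : List ((Fin 4 → ℤ) × List (Fin 4) × (Fin 4 → ℤ) × Fin 4)} (ht : tab S J L = true) {c : Additive (E →* ℂˣ)}
    (hc0 : c ≠ 0) (hc : (3 : ℤ) • c = 0) {μ : Fin 4 → ℤ} (hμ : μ ∈ L.map Prod.fst) {w : W} {l l' : T →* ℂˣ}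
    (hl : co hh l = fun i => μ i • c) (hm : Mv cs hN w l l') : ¬ NP cs hN {i | i ∈ J} l' := by
  have hO : ∀ μ ∈ L.map Prod.fst, ∀ j, ∃ ν ∈ L.map Prod.fst, ∀ i, act AF j μ i • c = ν i • c := by
    intro μ hμ j
    obtain ⟨t, htL, rfl⟩ := List.mem_map.1 hμ
    unfold tab at ht
    rw [List.all_eq_true] at ht
    have h1 := ht t htL
    simp only [Bool.and_eq_true] at h1
    have h2 := h1.1
    rw [List.all_eq_true] at h2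
    have h3 := h2 j (mem_I4 j)
    rw [List.any_eq_true] at h3
    obtain ⟨t', ht', h4⟩ := h3
    rw [dv3_iff] at h4
    exact ⟨t'.1, List.mem_map_of_mem ht', fun i => zsmul_eq_of_dvd (G := Additive (E →* ℂˣ)) hc (h4 i)⟩
  obtain ⟨ν, hν, e⟩ := exists_orb (h := h) C (L.map Prod.fst) hO w hμ hl hm
  obtain ⟨t, htL, rfl⟩ := List.mem_map.1 hν
  exact not_NP C h hclo ht hc0 hc htL e

/-- **the `T`-characters**: one orbit contains a character seen by `{0, 1, 3}` and one seen by `{0, 2, 3}` -/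
theorem eq_one_or {l₁ l₂ : T →* ℂˣ} (h₁ : NP cs hN {0, 1, 3} l₁) (h₂ : NP cs hN {0, 2, 3} l₂) {w : W}
    (hw : Mv cs hN w l₁ l₂) : l₁ = 1 ∨ (∃ c : E →* ℂˣ, c ≠ 1 ∧ c ^ 3 = 1) ∧ ∀ v l₃, Mv cs hN v l₁ l₃ →
      ¬ NP cs hN {0, 1, 2} l₃ ∧ ¬ NP cs hN {1, 2, 3} l₃ := by
  obtain ⟨a0, a1, a3⟩ := triv_A C h h₁
  obtain ⟨b0, b2, b3⟩ := triv_B C h h₂
  by_cases hc0 : co hh l₁ 2 = 0
  · left
    refine eq_one_of_co C fun i => ?_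
    fin_cases i
    · exact a0
    · exact a1
    · exact hc0
    · exact a3
  right
  have e1 : co hh l₁ = fun i => (![0, 0, 1, 0] : Fin 4 → ℤ) i • co hh l₁ 2 := by
    funext i
    fin_cases i
    · simpa using a0
    · simpa using a1
    · simp
    · simpa using a3
  have hO : ∀ μ ∈ OO, ∀ j, ∃ ν ∈ OO, ∀ i, act AF j μ i • co hh l₁ 2 = ν i • co hh l₁ 2 := by
    intro μ hμ j
    have h1 := OO_clo
    rw [List.all_eq_true] at h1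
    have h2 := h1 μ hμ
    rw [List.all_eq_true] at h2
    have h3 := h2 j (mem_I4 j)
    rw [List.any_eq_true] at h3
    obtain ⟨ν, hν, e⟩ := h3
    rw [eqV_iff] at e
    exact ⟨ν, hν, fun i => by rw [e]⟩
  obtain ⟨ν, hν, e2⟩ := exists_orb (h := h) C OO hO w (List.mem_cons_self ..) e1 hw
  have hc : (3 : ℤ) • co hh l₁ 2 = 0 := by
    have h1 := OO_cert
    rw [List.all_eq_true] at h1
    have h2 := h1 ν hν
    rw [List.any_eq_true] at h2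
    obtain ⟨t, -, e⟩ := h2
    rw [beq_iff_eq] at e
    exact three_of (G := Additive (E →* ℂˣ)) e ((congrFun e2 0).symm.trans b0) ((congrFun e2 2).symm.trans b2) ((congrFun e2 3).symm.trans b3)
  refine ⟨⟨(co hh l₁ 2).toMul, fun h1 => hc0 (Additive.toMul.injective h1), ?_⟩, fun v l₃ hv => ⟨fun hn => ?_, fun hn => ?_⟩⟩
  · have h1 := congrArg Additive.toMul hc
    rw [toMul_zsmul] at h1
    exact h1
  · have e : ({0, 1, 2} : Set (Fin 4)) = {i | i ∈ ([0, 1, 2] : List (Fin 4))} := by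
      ext i
      simp
    rw [e] at hn
    exact not_NP_orb C h clo_SC tab_C hc0 hc (List.mem_cons_self ..) e1 hv hn
  · have e : ({1, 2, 3} : Set (Fin 4)) = {i | i ∈ ([1, 2, 3] : List (Fin 4))} := by
      ext i
      simp
    rw [e] at hn
    exact not_NP_orb C h clo_SD tab_D hc0 hc (List.mem_cons_self ..) e1 hv hn

end Char

/-! ### the characters of the group -/

section Grp

universe u v

variable {W : Type*} {Y : Type u} [Group W] [Group Y] {M : CoxeterMatrix (Fin 4)}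
  {cs : CoxeterSystem M W} {A : Fin 4 → Fin 4 → ℤ} {h : IsCartan M A} {p : ℕ} {T : Subgroup Y} {n : Fin 4 → Y}
  {X : (Fin 4 → ℤ) → Subgroup Y} (R : RGD cs h p T n X) [Finite W] [Finite Y] {V : Type v} [AddCommGroup V] [Module ℂ V]
  {ρ : Representation ℂ Y V} [FiniteDimensional ℂ V] {E : Type*} [CommGroup E] {hh : Fin 4 → E →* T}

include R

/-- **only the trivial character in `V^U`** -/
theorem eq_one (hA : A = AF) (C : TCo A T n hh) (hG : GG cs h T X = ⊤) (hT : ∀ s ∈ T, ∀ t ∈ T, s * t = t * s)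
    (hρ : ρ.IsIrreducible) (h0 : VU cs h X ρ ≠ ⊥) {t₁ t₂ : Y}
    (ht₁ : Ell cs h T X {0, 1, 3} t₁) (hχ₁ : ρ.character t₁ ≠ 0)
    (ht₂ : Ell cs h T X {0, 2, 3} t₂) (hχ₂ : ρ.character t₂ ≠ 0)
    (h3 : (∃ c : E →* ℂˣ, c ≠ 1 ∧ c ^ 3 = 1) → (∃ t, Ell cs h T X {0, 1, 2} t ∧ ρ.character t ≠ 0) ∨
      ∃ t, Ell cs h T X {1, 2, 3} t ∧ ρ.character t ≠ 0) :
    VU cs h X ρ = Vl cs h T X ρ 1 ∧ ∀ l : T →* ℂˣ, Vl cs h T X ρ l ≠ ⊥ → l = 1 := by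
  subst hA
  obtain ⟨l₁, hl₁, hn₁⟩ := exists_fix_J R hG hT hρ h0 ht₁ hχ₁
  obtain ⟨l₂, hl₂, hn₂⟩ := exists_fix_J R hG hT hρ h0 ht₂ hχ₂
  obtain ⟨w, hw⟩ := exists_mv R hG hρ hl₁ hl₂
  have key : l₁ = 1 := by
    rcases eq_one_or C h hn₁ hn₂ hw with h1 | ⟨hc, h1⟩
    · exact h1
    exfalso
    rcases h3 hc with ⟨t, ht, hχ⟩ | ⟨t, ht, hχ⟩
    · obtain ⟨l, hl, hn⟩ := exists_fix_J R hG hT hρ h0 ht hχ
      obtain ⟨v, hv⟩ := exists_mv R hG hρ hl₁ hl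
      exact (h1 v l hv).1 hn
    · obtain ⟨l, hl, hn⟩ := exists_fix_J R hG hT hρ h0 ht hχ
      obtain ⟨v, hv⟩ := exists_mv R hG hρ hl₁ hl
      exact (h1 v l hv).2 hn
  have hall : ∀ l : T →* ℂˣ, Vl cs h T X ρ l ≠ ⊥ → l = 1 := by
    intro l hl
    obtain ⟨v, hv⟩ := exists_mv R hG hρ hl₁ hl
    subst key
    refine hv.unique fun g _ s t _ => ?_
    rw [MonoidHom.one_apply, MonoidHom.one_apply]
  exact ⟨VU_eq_of_forall R hT hall, hall⟩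

end Grp

end Cfsg.Agent.H650.OZ.FF
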